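import Groth.Agent.LC16.CechPairs

/-!
The extended Cech complex is contractible when one of the elements is a unit.
-/

namespace Groth.Agent.DerC41

universe u

set_option autoImplicit false

open CategoryTheory CategoryTheory.Limits LC16 LC16.CechPairs LC16.ConePair

variable {R : Type u} [CommRing R]

/-- the localised differential -/
noncomputable abbrev locMap (S : Submonoid R) {M N : ModuleCat.{u} R} (g : (M : Type u) →ₗ[R] N) :
    LocalizedModule S M →ₗ[R] LocalizedModule S N :=
  IsLocalizedModule.map S (LocalizedModule.mkLinearMap S M) (LocalizedModule.mkLinearMap S N) g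

theorem locMap_mk (S : Submonoid R) {M N : ModuleCat.{u} R} (g : (M : Type u) →ₗ[R] N) (x : M)
    (s : S) : locMap S g (LocalizedModule.mk x s) = LocalizedModule.mk (g x) s := by
  rw [IsLocalizedModule.mk_eq_mk', IsLocalizedModule.mk_eq_mk']
  exact IsLocalizedModule.map_mk' _ _ _ _ _ _

/-- elementwise contractibility -/
def Contr (K : Cx R) : Prop :=
  ∃ h : ∀ i j : ℤ, j + 1 = i → ((K.X i : Type u) →ₗ[R] (K.X j : Type u)),
    ∀ (i j k : ℤ) (hj : j + 1 = i) (hk : i + 1 = k) (x : K.X i),
      (K.d j i).hom (h i j hj x) + h k i hk ((K.d i k).hom x) = x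

theorem nonempty_homotopy {K : Cx R} (h : Contr K) : Nonempty (Homotopy (𝟙 K) 0) := by
  obtain ⟨h, hh⟩ := h
  let H : ∀ i j, (ComplexShape.up ℤ).Rel j i → (K.X i ⟶ K.X j) :=
    fun i j hij => ModuleCat.ofHom (h i j hij)
  have e : Homotopy.nullHomotopicMap' H = 𝟙 K := by
    apply HomologicalComplex.hom_ext
    intro i
    rw [Homotopy.nullHomotopicMap'_f (k₂ := i - 1) (k₁ := i) (k₀ := i + 1) (by simp) (by simp)]
    ext x
    rw [HomologicalComplex.id_f]
    simp only [ModuleCat.hom_add, LinearMap.add_apply, ModuleCat.hom_comp, LinearMap.comp_apply,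
      ModuleCat.hom_id, LinearMap.id_apply]
    rw [add_comm]
    exact hh i (i - 1) (i + 1) (by omega) rfl x
  exact ⟨e ▸ Homotopy.nullHomotopy' H⟩

/-- localisation at units does nothing -/
theorem mk_bijective {f : R} (hf : IsUnit f) (M : ModuleCat.{u} R) :
    Function.Bijective (LocalizedModule.mkLinearMap (Submonoid.powers f) M) := by
  have hs : ∀ s : Submonoid.powers f, IsUnit (s : R) := by
    rintro ⟨_, k, rfl⟩; exact hf.pow k
  constructor
  · intro a b hab
    obtain ⟨c, hc⟩ := LocalizedModule.mk_eq.1 hab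
    simp only [one_smul, Submonoid.smul_def] at hc
    exact (hs c).smul_left_cancel.1 hc
  · intro y
    induction y using LocalizedModule.induction_on with | h a s => ?_
    refine ⟨(((hs s).unit⁻¹ : Rˣ) : R) • a, ?_⟩
    rw [LocalizedModule.mkLinearMap_apply, LocalizedModule.mk_eq]
    refine ⟨1, ?_⟩
    simp only [Submonoid.smul_def, one_smul, Submonoid.coe_one, smul_smul, IsUnit.mul_val_inv]

theorem contr_cons_unit (f : R) (hf : IsUnit f) (fs : List R) (M : ModuleCat.{u} R) :
    Contr (C (f :: fs) M) := by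
  let inv (n : ℤ) : LocalizedModule (Submonoid.powers f) ((C fs M).X n) →ₗ[R]
      ((C fs M).X n : Type u) :=
    (LinearEquiv.ofBijective _ (mk_bijective hf ((C fs M).X n))).symm.toLinearMap
  have hinv : ∀ n (y : (C fs M).X n), inv n (LocalizedModule.mk y 1) = y := fun n y =>
    (LinearEquiv.ofBijective _ (mk_bijective hf ((C fs M).X n))).symm_apply_apply y
  have hinv' : ∀ n y, LocalizedModule.mk (inv n y) (1 : Submonoid.powers f) = y := fun n y =>
    (LinearEquiv.ofBijective _ (mk_bijective hf ((C fs M).X n))).apply_symm_apply y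
  refine ⟨fun i j hij => (pairs f fs M j (j - 1) (by omega)).symm.toLinearMap ∘ₗ
    LinearMap.inl R _ _ ∘ₗ (-inv j) ∘ₗ LinearMap.snd R _ _ ∘ₗ
      (pairs f fs M i j hij).toLinearMap, ?_⟩
  intro i j k hj hk x
  apply (pairs f fs M i j hj).injective
  rw [map_add]
  simp only [LinearMap.comp_apply, LinearEquiv.coe_coe, LinearMap.inl_apply, LinearMap.snd_apply,
    LinearMap.neg_apply]
  rw [pairs_d f fs M j i (j - 1) hj (by omega), LinearEquiv.apply_symm_apply]
  have e : pairs f fs M i j hj ((pairs f fs M i (i - 1) (by omega)).symm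
      (-inv i (pairs f fs M k i hk (((C (f :: fs) M).d i k).hom x)).2, 0)) =
      (-inv i (pairs f fs M k i hk (((C (f :: fs) M).d i k).hom x)).2, 0) := by
    obtain rfl : j = i - 1 := by omega
    exact LinearEquiv.apply_symm_apply _ _
  rw [e, pairs_d f fs M i k j hk hj]
  simp only [map_zero, sub_zero, map_sub, map_neg, hinv, Prod.mk_add_mk, add_zero, neg_sub]
  refine Prod.ext ?_ ?_
  · dsimp only
    have key : ∀ y : LocalizedModule (Submonoid.powers f) ((C fs M).X j),
        inv i (locMap _ ((C fs M).d j i).hom y) = ((C fs M).d j i).hom (inv j y) := fun y => by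
      conv_lhs => rw [← hinv' j y, locMap_mk, hinv]
    rw [key]
    abel
  · dsimp only
    rw [← LocalizedModule.mkLinearMap_apply, map_neg, LocalizedModule.mkLinearMap_apply, hinv']
    simp

theorem contr_cons (f : R) (fs : List R) (M : ModuleCat.{u} R) (hK : Contr (C fs M)) :
    Contr (C (f :: fs) M) := by
  obtain ⟨h, hh⟩ := hK
  refine ⟨fun i j hij => (pairs f fs M j (j - 1) (by omega)).symm.toLinearMap ∘ₗ
    LinearMap.prodMap (h i j hij) (-locMap (Submonoid.powers f) (h j (j - 1) (by omega))) ∘ₗ
      (pairs f fs M i j hij).toLinearMap, ?_⟩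
  intro i j k hj hk x
  obtain rfl : j = i - 1 := by omega
  apply (pairs f fs M i (i - 1) hj).injective
  rw [map_add]
  simp only [LinearMap.comp_apply, LinearEquiv.coe_coe, LinearMap.prodMap_apply,
    LinearMap.neg_apply]
  rw [pairs_d f fs M (i - 1) i (i - 1 - 1) hj (by omega), LinearEquiv.apply_symm_apply,
    LinearEquiv.apply_symm_apply, pairs_d f fs M i k (i - 1) hk hj]
  generalize pairs f fs M i (i - 1) hj x = z
  obtain ⟨a, b⟩ := z
  refine Prod.ext ?_ ?_
  · exact hh i (i - 1) k hj hk a
  · dsimp only [Prod.snd_add]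
    induction b using LocalizedModule.induction_on with | h u s => ?_
    simp only [map_neg, map_sub, locMap_mk]
    have := congrArg (LocalizedModule.mk · s) (hh (i - 1) (i - 1 - 1) i (by omega) hj u)
    simp only [IsLocalizedModule.mk_eq_mk', IsLocalizedModule.mk'_add] at this ⊢
    try abel_nf
    try abel_nf at this
    exact this

theorem contr_of_unit (fs : List R) (hf : ∃ f ∈ fs, IsUnit f) (M : ModuleCat.{u} R) :
    Contr (C fs M) := by
  induction fs with
  | nil => simp at hf
  | cons f fs ih =>
    by_cases hu : IsUnit f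
    · exact contr_cons_unit f hu fs M
    · obtain ⟨g, hg, hgu⟩ := hf
      rcases List.mem_cons.1 hg with rfl | hg
      · exact absurd hgu hu
      · exact contr_cons f fs M (ih ⟨g, hg, hgu⟩)

end Groth.Agent.DerC41
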