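import Groth.Agent.DerC41.Contr
import Groth.Agent.Koszul19.Cone

/-!
Degrees, torsion and vanishing of the cohomology of the extended Cech complex.
-/

namespace Groth.Agent.DerC41

universe u

set_option autoImplicit false

open CategoryTheory CategoryTheory.Limits LC16 LC16.CechPairs LC16.ConePair
open Koszul19 (Ex dd isZero_homology_iff_ex)

variable {R : Type u} [CommRing R]

theorem subsingleton_loc (S : Submonoid R) {M : Type u} [AddCommGroup M] [Module R M]
    [Subsingleton M] : Subsingleton (LocalizedModule S M) :=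
  ⟨fun a b => by
    induction a using LocalizedModule.induction_on with | h a s => ?_
    induction b using LocalizedModule.induction_on with | h b t => ?_
    rw [Subsingleton.elim a 0, Subsingleton.elim b 0]; simp⟩

theorem subsingleton_above (fs : List R) (M : ModuleCat.{u} R) :
    ∀ q : ℤ, (fs.length : ℤ) < q → Subsingleton ((C fs M).X q : Type u) := by
  induction fs with
  | nil => exact fun q hq => subsingleton_nil M (by simp at hq; omega)
  | cons f fs ih =>
    intro q hq
    simp only [List.length_cons, Nat.cast_add, Nat.cast_one] at hq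
    have := ih q (by omega)
    have := ih (q - 1) (by omega)
    have := subsingleton_loc (Submonoid.powers f) (M := ((C fs M).X (q - 1) : Type u))
    exact (pairs f fs M q (q - 1) (by omega)).injective.subsingleton

theorem ex_outside (fs : List R) (M : ModuleCat.{u} R) (q : ℤ)
    (hq : q < 0 ∨ (fs.length : ℤ) < q) : Ex (C fs M) q := by
  intro p j _ _ z _
  have : Subsingleton ((C fs M).X q : Type u) :=
    hq.elim (subsingleton_X fs M q) (subsingleton_above fs M q)
  exact ⟨0, Subsingleton.elim _ _⟩

/-- a multiple of the cycle `z` by a power of `g` is a boundary -/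
def Kills (K : Cx R) (g : R) : Prop :=
  ∀ (p q j : ℤ), p + 1 = q → q + 1 = j → ∀ z : K.X q, dd K q j z = 0 →
    ∃ (n : ℕ) (w : K.X p), dd K p q w = g ^ n • z

/-- a cycle with vanishing first component, in normal form -/
theorem exists_cycle_mk (f : R) (fs : List R) (M : ModuleCat.{u} R) (p q j : ℤ) (hp : p + 1 = q)
    (hj : q + 1 = j) (z : (C (f :: fs) M).X q) (hz : dd (C (f :: fs) M) q j z = 0)
    (hz1 : (pairs f fs M q p hp z).1 = 0) :
    ∃ (u : (C fs M).X p) (s : Submonoid.powers f),
      (pairs f fs M q p hp z).2 = LocalizedModule.mk u s ∧ dd (C fs M) p q u = 0 := by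
  obtain ⟨-, hb⟩ := (cycle_iff f fs M q j p hj hp z).1 hz
  rw [hz1] at hb
  generalize (pairs f fs M q p hp z).2 = b at hb ⊢
  induction b using LocalizedModule.induction_on with | h u s => ?_
  change -LocalizedModule.mk 0 1 - locMap _ ((C fs M).d p q).hom (LocalizedModule.mk u s) = 0 at hb
  rw [locMap_mk, LocalizedModule.zero_mk, neg_zero, zero_sub, neg_eq_zero,
    ← LocalizedModule.zero_mk (1 : Submonoid.powers f), LocalizedModule.mk_eq] at hb
  obtain ⟨t, ht⟩ := hb
  simp only [Submonoid.smul_def, smul_zero, Submonoid.coe_one, one_smul] at ht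
  refine ⟨(t : R) • u, t * s, ?_, ?_⟩
  · rw [LocalizedModule.mk_eq]
    refine ⟨1, ?_⟩
    simp only [Submonoid.smul_def, one_smul, Submonoid.coe_one, Submonoid.coe_mul, smul_smul,
      mul_comm]
  · rw [map_smul]; exact ht

/-- assembling the two steps -/
theorem kills_of_steps (g f : R) (fs : List R) (M : ModuleCat.{u} R)
    (h1 : ∀ (p q j : ℤ) (hp : p + 1 = q), q + 1 = j → ∀ z : (C (f :: fs) M).X q,
      dd (C (f :: fs) M) q j z = 0 →
        ∃ (n : ℕ) (w : (C fs M).X p), dd (C fs M) p q w = g ^ n • (pairs f fs M q p hp z).1)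
    (h2 : ∀ (p q : ℤ) (hp : p + 1 = q) (u : (C fs M).X p) (s : Submonoid.powers f),
      dd (C fs M) p q u = 0 → ∀ z : (C (f :: fs) M).X q,
        pairs f fs M q p hp z = (0, LocalizedModule.mk u s) →
        ∃ (n : ℕ) (w : (C (f :: fs) M).X p), dd (C (f :: fs) M) p q w = g ^ n • z) :
    Kills (C (f :: fs) M) g := by
  intro p q j hp hj z hz
  obtain ⟨n, w, hw⟩ := h1 p q j hp hj z hz
  set W : (C (f :: fs) M).X p := (pairs f fs M p (p - 1) (by omega)).symm (w, 0) with hW
  set z' : (C (f :: fs) M).X q := g ^ n • z - dd (C (f :: fs) M) p q W with hz'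
  have hcyc : dd (C (f :: fs) M) q j z' = 0 := by
    rw [hz', map_sub, map_smul, hz, smul_zero, Koszul19.dd_dd, sub_zero]
  have h0 : (pairs f fs M q p hp z').1 = 0 := by
    rw [hz', map_sub, map_smul, Prod.fst_sub, Prod.smul_fst, hW]
    erw [pairs_d f fs M p q (p - 1) hp (by omega)]
    rw [LinearEquiv.apply_symm_apply]
    exact sub_eq_zero.2 hw.symm
  obtain ⟨u, s, hus, hu⟩ := exists_cycle_mk f fs M p q j hp hj z' hcyc h0
  obtain ⟨m, w', hw'⟩ := h2 p q hp u s hu z' (Prod.ext h0 hus)
  refine ⟨m + n, w' + g ^ m • W, ?_⟩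
  rw [map_add, map_smul, hw', hz', smul_sub, sub_add_cancel, pow_add, mul_smul]

theorem kills_cons_self (f : R) (fs : List R) (M : ModuleCat.{u} R) : Kills (C (f :: fs) M) f := by
  refine kills_of_steps f f fs M ?_ ?_
  · intro p q j hp hj z hz
    obtain ⟨-, hb⟩ := (cycle_iff f fs M q j p hj hp z).1 hz
    generalize (pairs f fs M q p hp z).1 = a at hb ⊢
    generalize (pairs f fs M q p hp z).2 = b at hb
    induction b using LocalizedModule.induction_on with | h u s => ?_
    change -LocalizedModule.mk a 1 - locMap _ ((C fs M).d p q).hom (LocalizedModule.mk u s) = 0 at hb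
    rw [locMap_mk, ← neg_add', neg_eq_zero, LocalizedModule.mk_add_mk,
      ← LocalizedModule.zero_mk (1 : Submonoid.powers f), LocalizedModule.mk_eq] at hb
    obtain ⟨⟨_, k, rfl⟩, hk⟩ := hb
    obtain ⟨l, hl⟩ := s.2
    simp only [Submonoid.smul_def, one_smul, smul_zero, Submonoid.coe_one, ← hl] at hk
    refine ⟨k + l, -(f ^ k • u), ?_⟩
    rw [map_neg, map_smul, neg_eq_iff_add_eq_zero, pow_add, mul_smul, ← smul_add, add_comm]
    exact hk
  · intro p q hp u s hu z hz
    obtain ⟨m, hm⟩ := s.2
    refine ⟨m, (pairs f fs M p (p - 1) (by omega)).symm (-u, 0), (pairs f fs M q p hp).injective ?_⟩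
    erw [pairs_d f fs M p q (p - 1) hp (by omega)]
    rw [LinearEquiv.apply_symm_apply, map_smul, hz, Prod.smul_mk, smul_zero]
    refine Prod.ext ?_ ?_
    · change dd (C fs M) p q (-u) = 0
      rw [map_neg, hu, neg_zero]
    · dsimp only
      rw [map_zero, sub_zero, LocalizedModule.smul'_mk, ← LocalizedModule.mkLinearMap_apply,
        map_neg, LocalizedModule.mkLinearMap_apply, neg_neg, LocalizedModule.mk_eq]
      refine ⟨1, ?_⟩
      simp only [Submonoid.smul_def, one_smul, Submonoid.coe_one]
      exact congrArg (· • u) hm.symm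

theorem kills_cons (g f : R) (fs : List R) (M : ModuleCat.{u} R) (h : Kills (C fs M) g) :
    Kills (C (f :: fs) M) g := by
  refine kills_of_steps g f fs M ?_ ?_
  · intro p q j hp hj z hz
    exact h p q j hp hj _ ((cycle_iff f fs M q j p hj hp z).1 hz).1
  · intro p q hp u s hu z hz
    obtain ⟨m, v, hv⟩ := h (p - 1) p q (by omega) hp u hu
    refine ⟨m, (pairs f fs M p (p - 1) (by omega)).symm (0, -LocalizedModule.mk v s),
      (pairs f fs M q p hp).injective ?_⟩
    erw [pairs_d f fs M p q (p - 1) hp (by omega)]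
    rw [LinearEquiv.apply_symm_apply, map_smul, hz, Prod.smul_mk, smul_zero]
    refine Prod.ext ?_ ?_
    · exact map_zero _
    · change -LocalizedModule.mk (0 : (C fs M).X p) 1 -
        locMap _ ((C fs M).d (p - 1) p).hom (-LocalizedModule.mk v s) = g ^ m • LocalizedModule.mk u s
      rw [map_neg, locMap_mk, LocalizedModule.zero_mk, neg_zero, zero_sub, neg_neg,
        LocalizedModule.smul'_mk]
      exact congrArg (LocalizedModule.mk · s) hv

theorem kills_mem (fs : List R) (M : ModuleCat.{u} R) : ∀ g ∈ fs, Kills (C fs M) g := by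
  induction fs with
  | nil => simp
  | cons f fs ih =>
    intro g hg
    rcases List.mem_cons.1 hg with rfl | hg
    · exact kills_cons_self g fs M
    · exact kills_cons g f fs M (ih g hg)

theorem exists_pow_smul_eq_zero (fs : List R) (M : ModuleCat.{u} R) (q : ℤ)
    (x : (C fs M).homology q) : ∃ n : ℕ, 1 ≤ n ∧ ∀ f ∈ fs, (f ^ n) • x = 0 := by
  have key : ∀ g ∈ fs, ∃ n : ℕ, g ^ n • x = 0 := by
    intro g hg
    let e := (Koszul19.homologyIsoHc (C fs M) (q - 1) q (q + 1) (by omega) rfl).toLinearEquiv
    obtain ⟨⟨z, hz⟩, hzx⟩ := Submodule.Quotient.mk_surjective _ (e x)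
    obtain ⟨n, w, hw⟩ := kills_mem fs M g hg (q - 1) q (q + 1) (by omega) rfl z hz
    refine ⟨n, e.injective ?_⟩
    rw [map_smul, map_zero, ← hzx, ← Submodule.Quotient.mk_smul,
      Submodule.Quotient.mk_eq_zero]
    exact ⟨w, hw⟩
  choose! n hn using key
  refine ⟨(fs.map n).sum + 1, by omega, fun f hf => ?_⟩
  have hle : n f ≤ (fs.map n).sum + 1 :=
    (List.single_le_sum (fun _ _ => Nat.zero_le _) _ (List.mem_map_of_mem hf)).trans (Nat.le_succ _)
  rw [← Nat.sub_add_cancel hle, pow_add, mul_smul, hn f hf, smul_zero]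

theorem smul_bijective_X (g : R) (fs : List R) (M : ModuleCat.{u} R)
    (hg : Function.Bijective (fun m : M => g • m)) :
    ∀ q : ℤ, Function.Bijective (fun x : (C fs M).X q => g • x) := by
  induction fs with
  | nil =>
    intro q
    rcases eq_or_ne q 0 with rfl | hq
    · refine ⟨fun x y hxy => (nilEquiv M).injective (hg.1 ?_), fun y => ?_⟩
      · have := congrArg (nilEquiv M) hxy
        simpa only [map_smul] using this
      · obtain ⟨m, hm⟩ := hg.2 (nilEquiv M y)
        exact ⟨(nilEquiv M).symm m, (nilEquiv M).injective (by simpa using hm)⟩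
    · have := subsingleton_nil M hq
      exact ⟨fun x y _ => Subsingleton.elim x y, fun y => ⟨y, Subsingleton.elim _ _⟩⟩
  | cons f fs ih =>
    intro q
    obtain ⟨h1, h2⟩ := ih q
    have l : Function.Bijective
        (fun x : LocalizedModule (Submonoid.powers f) ((C fs M).X (q - 1)) => g • x) := by
      obtain ⟨k1, k2⟩ := ih (q - 1)
      constructor
      · intro x y hxy
        induction x using LocalizedModule.induction_on with | h a s => ?_
        induction y using LocalizedModule.induction_on with | h b t => ?_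
        simp only [LocalizedModule.smul'_mk, LocalizedModule.mk_eq, Submonoid.smul_def] at hxy
        obtain ⟨c, hc⟩ := hxy
        rw [LocalizedModule.mk_eq]
        refine ⟨c, k1 ?_⟩
        simp only [Submonoid.smul_def]
        simp only [smul_comm g]
        exact hc
      · intro y
        induction y using LocalizedModule.induction_on with | h b t => ?_
        obtain ⟨a, ha⟩ := k2 b
        exact ⟨LocalizedModule.mk a t,
          (LocalizedModule.smul'_mk _ _ _).trans (congrArg (LocalizedModule.mk · t) ha)⟩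
    refine ⟨fun x y hxy => (pairs f fs M q (q - 1) (by omega)).injective ?_, fun y => ?_⟩
    · have := congrArg (pairs f fs M q (q - 1) (by omega)) hxy
      simp only [map_smul, Prod.ext_iff, Prod.smul_fst, Prod.smul_snd] at this
      exact Prod.ext (h1 this.1) (l.1 this.2)
    · obtain ⟨a, ha⟩ := h2 (pairs f fs M q (q - 1) (by omega) y).1
      obtain ⟨b, hb⟩ := l.2 (pairs f fs M q (q - 1) (by omega) y).2
      refine ⟨(pairs f fs M q (q - 1) (by omega)).symm (a, b),
        (pairs f fs M q (q - 1) (by omega)).injective ?_⟩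
      simp only [map_smul, LinearEquiv.apply_symm_apply]
      exact Prod.ext ha hb

theorem pow_smul_bijective {X : Type u} [AddCommGroup X] [Module R X] {g : R}
    (h : Function.Bijective (fun x : X => g • x)) (n : ℕ) :
    Function.Bijective (fun x : X => g ^ n • x) := by
  induction n with
  | zero => simp only [pow_zero, one_smul]; exact Function.bijective_id
  | succ n ih => simpa [pow_succ, mul_smul, Function.comp_def] using ih.comp h

theorem ex_of_span (fs : List R) (M : ModuleCat.{u} R) (f : R)
    (hf : f ∈ Ideal.span {a : R | a ∈ fs}) (hbij : Function.Bijective (fun m : M => f • m))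
    (q : ℤ) : Ex (C fs M) q := by
  intro p j hp hj z hz
  let J : Ideal R := (LinearMap.range (dd (C fs M) p q)).comap (LinearMap.toSpanSingleton R _ z)
  have hJ : Ideal.span {a : R | a ∈ fs} ≤ J.radical := Ideal.span_le.2 fun g hg => by
    obtain ⟨n, w, hw⟩ := kills_mem fs M g hg p q j hp hj z hz
    exact ⟨n, w, hw⟩
  obtain ⟨n, w, hw⟩ := hJ hf
  obtain ⟨w', rfl⟩ := (pow_smul_bijective (smul_bijective_X f fs M hbij p) n).2 w
  refine ⟨w', (pow_smul_bijective (smul_bijective_X f fs M hbij q) n).1 ?_⟩
  exact (map_smul _ _ _).symm.trans hw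

end Groth.Agent.DerC41
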